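import Mathlib
import Cfsg.Agent.H686.CharKit
import Cfsg.Agent.H674.Codegree
import Cfsg.Agent.H677.CodPrime

/-!
# Codegrees inside the codegrees of a simple group (helper850, S3539): basics

The frame of S4941 (helper495, `H495.Cod`) for an arbitrary finite nonabelian simple group `L` instead of `A_n`.

* `NDeg L d` : `d` is the degree of a nontrivial irreducible character of `L`
* `CodOK L H` : the codegrees of `H` are codegrees of `L`, in the form without division
* `CodOK.of_surj`, `CodOK.perfect`, `CodOK.simple`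
-/

set_option autoImplicit false
set_option linter.unusedSectionVars false

universe u v w

namespace Cfsg.Agent.H850.Cod

open Cfsg Cfsg.Agent.Characters.Core Cfsg.Agent.H686.CharKit

/-- `d` is the degree of a nontrivial irreducible character of `L` -/
def NDeg (L : Type v) [Group L] (d : ℕ) : Prop := ∃ θ : IrrCharacter L,
  (θ : L → ℂ) ≠ 1 ∧ charDegree (θ : L → ℂ) = d

/-- the codegrees of `H` are codegrees of `L` -/
def CodOK (L : Type v) [Group L] (H : Type u) [Group H] : Prop := ∀ χ : IrrCharacter H, (χ : H → ℂ) ≠ 1 →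
  ∃ d : ℕ, NDeg L d ∧ Nat.card H * d = Nat.card L * (Nat.card {g : H // (χ : H → ℂ) g = (χ : H → ℂ) 1} *
    charDegree (χ : H → ℂ))

theorem charDegree_one {G : Type u} [Group G] : charDegree (1 : G → ℂ) = 1 := by
  simp [charDegree]

/-- a nontrivial irreducible character satisfies `χ(1)² + 1 ≤ |T|` -/
theorem sq_lt {T : Type u} [Group T] [Finite T] (χ : IrrCharacter T) (h : (χ : T → ℂ) ≠ 1) :
    charDegree (χ : T → ℂ) ^ 2 + 1 ≤ Nat.card T := by
  classical
  have := finite_irr (G := T)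
  have := Fintype.ofFinite (IrrCharacter T)
  let o : IrrCharacter T := ⟨1, isIrr_one⟩
  have ho : χ ≠ o := fun h1 => h (by rw [h1])
  rw [← sum_deg_sq (G := T)]
  have h1 : ∑ η ∈ ({χ, o} : Finset (IrrCharacter T)), charDegree (η : T → ℂ) ^ 2 ≤
      ∑ η : IrrCharacter T, charDegree (η : T → ℂ) ^ 2 :=
    Finset.sum_le_sum_of_subset (Finset.subset_univ _)
  rw [Finset.sum_pair ho] at h1
  have h2 : charDegree (o : T → ℂ) = 1 := charDegree_one
  rw [h2, one_pow] at h1
  exact h1

theorem card_ker {T : Type u} [Group T] [Finite T] (χ : IrrCharacter T) :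
    Nat.card {g : T // (χ : T → ℂ) g = (χ : T → ℂ) 1} = Nat.card (chKer χ) := rfl

theorem ker_dvd {T : Type u} [Group T] [Finite T] (χ : IrrCharacter T) :
    Nat.card {g : T // (χ : T → ℂ) g = (χ : T → ℂ) 1} * charDegree (χ : T → ℂ) ∣ Nat.card T := by
  rw [card_ker]
  exact H674.Codegree.kernel_mul_degree_dvd χ.2 (chKer χ) fun g => Iff.rfl

/-- the codegree of a nontrivial character is larger than `1` -/
theorem ker_lt {T : Type u} [Group T] [Finite T] (χ : IrrCharacter T) (h : (χ : T → ℂ) ≠ 1) :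
    Nat.card {g : T // (χ : T → ℂ) g = (χ : T → ℂ) 1} * charDegree (χ : T → ℂ) < Nat.card T := by
  rw [card_ker]
  obtain ⟨ψ, hψ⟩ := exists_infl (chKer χ) χ le_rfl
  have hne : (ψ : T ⧸ chKer χ → ℂ) ≠ 1 := by
    intro h1
    apply h
    funext g
    rw [← hψ, infl_apply, h1]
    rfl
  have h1 := sq_lt ψ hne
  have hdeg : charDegree (χ : T → ℂ) = charDegree (ψ : T ⧸ chKer χ → ℂ) := by
    have h2 : (χ : T → ℂ) 1 = (ψ : T ⧸ chKer χ → ℂ) 1 := by
      conv_lhs => rw [← hψ]
      exact infl_apply _ _ _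
    rw [charDegree, charDegree, h2]
  have h2 : charDegree (ψ : T ⧸ chKer χ → ℂ) < Nat.card (T ⧸ chKer χ) := by
    have := charDegree_pos ψ
    nlinarith
  rw [hdeg, Subgroup.card_eq_card_quotient_mul_card_subgroup (chKer χ), mul_comm]
  exact Nat.mul_lt_mul_of_pos_right h2 Nat.card_pos

/-- a nonabelian simple group is perfect -/
theorem perfect_of_simple {T : Type u} [Group T] [IsSimpleGroup T] (h : ¬ ∀ a b : T, a * b = b * a) :
    commutator T = ⊤ := by
  rcases (inferInstance : (commutator T).Normal).eq_bot_or_eq_top with h4 | h4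
  · exfalso
    apply h
    intro a b
    have h6 : a * b * a⁻¹ * b⁻¹ ∈ commutator T :=
      Subgroup.commutator_mem_commutator (Subgroup.mem_top a) (Subgroup.mem_top b)
    rw [h4, Subgroup.mem_bot] at h6
    have h7 : a * b * (b * a)⁻¹ = 1 := by rw [← h6]; group
    exact mul_inv_eq_one.1 h7
  · exact h4

/-- the kernel of a nontrivial irreducible character of a simple group -/
theorem card_ker_simple {T : Type u} [Group T] [Finite T] [IsSimpleGroup T] (χ : IrrCharacter T) (h : (χ : T → ℂ) ≠ 1) :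
    Nat.card {g : T // (χ : T → ℂ) g = (χ : T → ℂ) 1} = 1 := by
  rw [card_ker]
  rcases (chKer_normal χ).eq_bot_or_eq_top with h1 | h1
  · rw [h1, Subgroup.card_bot]
  · exfalso
    have h2 := ker_lt χ h
    rw [card_ker, h1, Subgroup.card_top] at h2
    have := charDegree_pos χ
    have h3 : Nat.card T * 1 ≤ Nat.card T * charDegree (χ : T → ℂ) := Nat.mul_le_mul_left _ this
    omega

theorem card_ker_one {T : Type u} [Group T] [Finite T] :
    Nat.card {g : T // (1 : T → ℂ) g = (1 : T → ℂ) 1} = Nat.card T :=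
  Nat.card_congr (Equiv.subtypeUnivEquiv fun _ => rfl)

/-- from the set of codegrees (in the form of S3538, S3539) to `CodOK` -/
theorem CodOK.of_subset {L : Type v} [Group L] [Finite L] [IsSimpleGroup L] {G : Type u} [Group G] [Finite G]
    (h : {c : ℕ | ∃ χ : IrrCharacter G, (c : ℂ) * (χ : G → ℂ) 1 *
        (Nat.card {g : G // (χ : G → ℂ) g = (χ : G → ℂ) 1} : ℂ) = (Nat.card G : ℂ)} ⊆
      {c : ℕ | ∃ χ : IrrCharacter L, (c : ℂ) * (χ : L → ℂ) 1 *
        (Nat.card {g : L // (χ : L → ℂ) g = (χ : L → ℂ) 1} : ℂ) = (Nat.card L : ℂ)}) : CodOK L G := by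
  intro χ hχ
  obtain ⟨c, hc⟩ := ker_dvd χ
  have hpos : 0 < Nat.card {g : G // (χ : G → ℂ) g = (χ : G → ℂ) 1} * charDegree (χ : G → ℂ) := by
    apply Nat.pos_of_ne_zero
    intro h0
    rw [h0, zero_mul] at hc
    exact Nat.card_pos.ne' hc
  have hlt := ker_lt χ hχ
  have hc1 : 1 < c := by
    by_contra hne
    have h2 : c ≤ 1 := by omega
    have h3 := Nat.mul_le_mul_left (Nat.card {g : G // (χ : G → ℂ) g = (χ : G → ℂ) 1} * charDegree (χ : G → ℂ)) h2
    rw [← hc, mul_one] at h3
    omega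
  have hmem : c ∈ {c : ℕ | ∃ χ : IrrCharacter G, (c : ℂ) * (χ : G → ℂ) 1 *
        (Nat.card {g : G // (χ : G → ℂ) g = (χ : G → ℂ) 1} : ℂ) = (Nat.card G : ℂ)} := by
    refine ⟨χ, ?_⟩
    have e1 := charDegree_irr χ
    generalize hK : Nat.card {g : G // (χ : G → ℂ) g = (χ : G → ℂ) 1} = k at hc
    rw [← e1, hc]
    push_cast
    ring
  obtain ⟨ψ, hψ⟩ := h hmem
  have hψ' : c * charDegree (ψ : L → ℂ) * Nat.card {g : L // (ψ : L → ℂ) g = (ψ : L → ℂ) 1} = Nat.card L := by
    have e1 := charDegree_irr ψ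
    generalize Nat.card {g : L // (ψ : L → ℂ) g = (ψ : L → ℂ) 1} = k at hψ ⊢
    rw [← e1] at hψ
    exact_mod_cast hψ
  have hψ1 : (ψ : L → ℂ) ≠ 1 := by
    intro h2
    rw [h2, card_ker_one, charDegree_one, mul_one] at hψ'
    have h3 : 0 < Nat.card L := Nat.card_pos
    have h4 : 2 * Nat.card L ≤ c * Nat.card L := Nat.mul_le_mul_right _ hc1
    omega
  refine ⟨_, ⟨ψ, hψ1, rfl⟩, ?_⟩
  rw [card_ker_simple ψ hψ1, mul_one] at hψ'
  rw [← hψ']
  calc Nat.card G * charDegree (ψ : L → ℂ)
      = (Nat.card {g : G // (χ : G → ℂ) g = (χ : G → ℂ) 1} * charDegree (χ : G → ℂ) * c) *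
        charDegree (ψ : L → ℂ) := by rw [← hc]
    _ = _ := by ring

variable {L : Type v} [Group L] [Finite L] [IsSimpleGroup L]

theorem NDeg.facts (hL : ¬ ∀ a b : L, a * b = b * a) {d : ℕ} (h : NDeg L d) :
    1 < d ∧ d * d < Nat.card L ∧ d ∣ Nat.card L := by
  obtain ⟨θ, h1, rfl⟩ := h
  have h2 := sq_lt θ h1
  refine ⟨?_, by nlinarith, H674.Codegree.charDegree_dvd_card θ.2⟩
  by_contra hne
  have h3 : charDegree (θ : L → ℂ) = 1 := by
    have := charDegree_pos θ
    omega
  apply h1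
  obtain ⟨f, hf⟩ : ∃ f : L →* ℂˣ, (θ : L → ℂ) = fun g => (f g : ℂ) := by
    have h4 : (θ : L → ℂ) 1 = 1 := by rw [← charDegree_irr θ, h3, Nat.cast_one]
    obtain ⟨f, hf⟩ := Characters.Linear.exists_hom_of_isIrrCharacter θ.2 h4
    exact ⟨f, hf⟩
  have hp : commutator L ≤ f.ker := Abelianization.commutator_subset_ker f
  rw [perfect_of_simple hL, top_le_iff] at hp
  rw [hf]
  funext g
  have h5 : g ∈ f.ker := by rw [hp]; exact Subgroup.mem_top g
  rw [MonoidHom.mem_ker] at h5
  simp [h5]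

/-- quotients -/
theorem CodOK.of_surj {H : Type u} {T : Type w} [Group H] [Finite H] [Group T] [Finite T] (h : CodOK L H)
    (f : H →* T) (hf : Function.Surjective f) : CodOK L T := by
  intro χ hχ
  let ψ : IrrCharacter H := ⟨(χ : T → ℂ) ∘ f, isIrr_comp f hf χ.2⟩
  have hψ : (ψ : H → ℂ) ≠ 1 := by
    intro h1
    apply hχ
    funext t
    obtain ⟨g, rfl⟩ := hf t
    exact congrFun h1 g
  obtain ⟨d, hd, h1⟩ := h ψ hψ
  refine ⟨d, hd, ?_⟩
  have hcH : Nat.card H = Nat.card f.ker * Nat.card T := by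
    rw [← Nat.card_congr (QuotientGroup.quotientKerEquivOfSurjective f hf).toEquiv, mul_comm]
    exact Subgroup.card_eq_card_quotient_mul_card_subgroup f.ker
  have hdeg : charDegree (ψ : H → ℂ) = charDegree (χ : T → ℂ) := by
    rw [charDegree, charDegree]
    show Nat.floor ((χ : T → ℂ) (f 1)).re = _
    rw [map_one]
  have hk : Nat.card {g : H // (ψ : H → ℂ) g = (ψ : H → ℂ) 1} =
      Nat.card f.ker * Nat.card {g : T // (χ : T → ℂ) g = (χ : T → ℂ) 1} := by
    rw [card_ker, card_ker]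
    have h2 : chKer ψ = (chKer χ).comap f := by
      ext g
      rw [mem_chKer, Subgroup.mem_comap, mem_chKer]
      show (χ : T → ℂ) (f g) = (χ : T → ℂ) (f 1) ↔ _
      rw [map_one]
    rw [h2]
    have h3 := Subgroup.index_comap_of_surjective (chKer χ) hf
    have h4 := Subgroup.card_mul_index ((chKer χ).comap f)
    have h5 := Subgroup.card_mul_index (chKer χ)
    rw [h3, hcH, ← h5, ← mul_assoc] at h4
    exact Nat.eq_of_mul_eq_mul_right (Nat.pos_of_ne_zero (chKer χ).index_ne_zero_of_finite) h4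
  rw [hcH, hk, hdeg] at h1
  have hpos : 0 < Nat.card f.ker := Nat.card_pos
  apply Nat.eq_of_mul_eq_mul_left hpos
  rw [← mul_assoc, h1]
  ring

/-- a simple group of order `p d` with `d < p` is of order `p` -/
theorem no_big_prime (hL : ¬ ∀ a b : L, a * b = b * a) {p d : ℕ} (hp : p.Prime) (hd : d < p) (h : p * d = Nat.card L) :
    False := by
  have := Fact.mk hp
  have hd0 : 0 < d := by
    rcases Nat.eq_zero_or_pos d with h0 | h0
    · rw [h0, mul_zero] at h
      exact absurd h.symm Nat.card_pos.ne'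
    · exact h0
  let P : Sylow p L := default
  have hndvd : ¬ p ∣ d := Nat.not_dvd_of_pos_of_lt hd0 hd
  have hcP : Nat.card P = p := by
    rw [P.card_eq_multiplicity, ← h, Nat.factorization_mul hp.ne_zero hd0.ne', Finsupp.add_apply,
      hp.factorization_self, Nat.factorization_eq_zero_of_not_dvd hndvd, add_zero, pow_one]
  have hidx : (P : Subgroup L).index = d := by
    have h1 := Subgroup.card_mul_index (P : Subgroup L)
    rw [← h] at h1
    have h2 : Nat.card (P : Subgroup L) = p := hcP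
    rw [h2] at h1
    exact Nat.eq_of_mul_eq_mul_left hp.pos h1
  have hn : Nat.card (Sylow p L) ∣ d := by
    rw [← hidx]
    exact P.card_dvd_index
  have hn1 : Nat.card (Sylow p L) = 1 := by
    have h1 := card_sylow_modEq_one p L
    have h2 : Nat.card (Sylow p L) < p := lt_of_le_of_lt (Nat.le_of_dvd hd0 hn) hd
    rw [Nat.ModEq, Nat.mod_eq_of_lt h2, Nat.mod_eq_of_lt hp.one_lt] at h1
    exact h1
  have hnorm : (P : Subgroup L).Normal := by
    have h1 : Subsingleton (Sylow p L) := (Nat.card_eq_one_iff_unique.1 hn1).1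
    exact Sylow.normal_of_subsingleton P
  rcases hnorm.eq_bot_or_eq_top with h1 | h1
  · have h2 : Nat.card (P : Subgroup L) = p := hcP
    rw [h1, Subgroup.card_bot] at h2
    exact hp.one_lt.ne h2
  · have h2 : Nat.card (P : Subgroup L) = p := hcP
    rw [h1, Subgroup.card_top] at h2
    have h3 : IsCyclic L := isCyclic_of_prime_card h2
    exact hL fun a b => (IsCyclic.isMulCommutative (α := L)).is_comm.comm a b

/-- groups with `CodOK` are perfect -/
theorem CodOK.perfect (hL : ¬ ∀ a b : L, a * b = b * a) {H : Type u} [Group H] [Finite H] (h : CodOK L H) :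
    commutator H = ⊤ := by
  by_contra hne
  obtain ⟨f, p, hp, hf⟩ := H677.CodPrime.exists_hom_prime hne
  let χ : IrrCharacter H := ⟨fun g => (f g : ℂ), Characters.Linear.isIrrCharacter_hom f⟩
  have hχ : (χ : H → ℂ) ≠ 1 := by
    intro h1
    have h2 : f.ker = ⊤ := by
      rw [eq_top_iff]
      intro g _
      rw [MonoidHom.mem_ker]
      exact Units.ext (congrFun h1 g)
    rw [h2, Subgroup.index_top] at hf
    exact hp.one_lt.ne hf
  obtain ⟨d, hd, h1⟩ := h χ hχ
  obtain ⟨hd1, hd2, hd3⟩ := hd.facts hL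
  have hdeg : charDegree (χ : H → ℂ) = 1 := by
    rw [charDegree]
    show Nat.floor (((f 1 : ℂˣ) : ℂ)).re = 1
    rw [map_one]
    simp
  have hk : Nat.card {g : H // (χ : H → ℂ) g = (χ : H → ℂ) 1} = Nat.card f.ker := by
    refine Nat.card_congr (Equiv.subtypeEquivRight fun g => ?_)
    rw [MonoidHom.mem_ker]
    show ((f g : ℂˣ) : ℂ) = ((f 1 : ℂˣ) : ℂ) ↔ _
    rw [map_one]
    exact ⟨fun h => Units.ext h, fun h => by rw [h]⟩
  rw [hdeg, hk, mul_one] at h1
  have h2 := Subgroup.card_mul_index f.ker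
  rw [hf] at h2
  have h3 : p * d = Nat.card L := by
    rw [← h2, mul_assoc, mul_comm (Nat.card L)] at h1
    exact Nat.eq_of_mul_eq_mul_left Nat.card_pos h1
  have h4 : d < p := by
    by_contra h5
    rw [not_lt] at h5
    have := Nat.mul_le_mul_right d h5
    omega
  exact no_big_prime hL hp h4 h3

/-- simple groups with `CodOK`: the order divides `|L|`, and the degrees times the quotient are degrees of `L` -/
theorem CodOK.simple {S : Type u} [Group S] [Finite S] [IsSimpleGroup S] (h : CodOK L S) :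
    ∃ k : ℕ, Nat.card L = k * Nat.card S ∧
      ∀ χ : IrrCharacter S, (χ : S → ℂ) ≠ 1 → NDeg L (k * charDegree (χ : S → ℂ)) := by
  classical
  have := finite_irr (G := S)
  have := Fintype.ofFinite (IrrCharacter S)
  have key : ∀ χ : IrrCharacter S, (χ : S → ℂ) ≠ 1 → ∃ d, NDeg L d ∧ Nat.card S * d = Nat.card L * charDegree (χ : S → ℂ) := by
    intro χ hχ
    obtain ⟨d, hd, h1⟩ := h χ hχ
    rw [card_ker_simple χ hχ, one_mul] at h1
    exact ⟨d, hd, h1⟩
  have hS : 0 < Nat.card S := Nat.card_pos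
  have hdvd : Nat.card S ∣ Nat.card L := by
    rw [← Nat.pow_dvd_pow_iff (n := 2) (by norm_num)]
    let o : IrrCharacter S := ⟨1, isIrr_one⟩
    have h1 : ∀ χ ∈ Finset.univ.erase o, (Nat.card S) ^ 2 ∣ (Nat.card L) ^ 2 * charDegree (χ : S → ℂ) ^ 2 := by
      intro χ hχ
      obtain ⟨d, -, h2⟩ := key χ fun h3 => (Finset.ne_of_mem_erase hχ) (Subtype.ext h3)
      rw [← mul_pow, ← h2, mul_pow]
      exact Dvd.intro _ rfl
    have h2 := Finset.dvd_sum h1
    rw [← Finset.mul_sum] at h2
    have h3 := Finset.add_sum_erase Finset.univ (fun χ : IrrCharacter S => charDegree (χ : S → ℂ) ^ 2) (Finset.mem_univ o)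
    rw [sum_deg_sq] at h3
    have h4 : charDegree (o : S → ℂ) = 1 := charDegree_one
    rw [h4, one_pow] at h3
    have h5 : Nat.card S ^ 2 ∣ (Nat.card L) ^ 2 * (Nat.card S - 1) := by
      rw [show Nat.card S - 1 = ∑ χ ∈ Finset.univ.erase o, charDegree (χ : S → ℂ) ^ 2 by omega]
      exact h2
    refine Nat.Coprime.dvd_of_dvd_mul_right ?_ h5
    apply Nat.Coprime.pow_left
    rw [Nat.coprime_comm]
    exact (Nat.coprime_self_sub_left (by omega : 1 ≤ Nat.card S)).2 (Nat.coprime_one_left _)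
  obtain ⟨k, hk⟩ := hdvd
  refine ⟨k, by rw [hk, mul_comm], fun χ hχ => ?_⟩
  obtain ⟨d, hd, h1⟩ := key χ hχ
  have h2 : d = k * charDegree (χ : S → ℂ) := by
    rw [hk, mul_assoc] at h1
    exact Nat.eq_of_mul_eq_mul_left hS h1
  rwa [← h2]

end Cfsg.Agent.H850.Cod
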