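import Cfsg.Agent.H850.Cod.Nonab

/-!
# Codegrees inside the codegrees of a simple group (helper850, S3539): reduction to simple groups

`L` a finite nonabelian simple group (after helper495's `H495.Cod.Reduce`).

* `CentralOK L` : no perfect `G` with a central subgroup `M` of prime order, `G / M ≃* L`, and all irreducible characters
  over `M` of degree `|M| d`, `d` a nontrivial degree of `L`
* `NoncentralOK L` : the same for a noncentral abelian minimal normal subgroup `M`
* `minimal_false` : `G` with minimal normal subgroup `M` and `G / M ≃* L` does not exist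
* `reduce` : if every simple group with the codegrees of `L` is `L`, then every nontrivial one is
-/

set_option autoImplicit false
set_option linter.unusedSectionVars false

universe u v

namespace Cfsg.Agent.H850.Cod

open Cfsg Cfsg.Agent.Characters.Core Cfsg.Agent.H686.CharKit Subgroup

/-- the central case -/
def CentralOK (L : Type v) [Group L] : Prop :=
  ∀ (G : Type u) [Group G] [Finite G] (M : Subgroup G) [M.Normal] (_ : G ⧸ M ≃* L), commutator G = ⊤ →
    M ≤ center G → (Nat.card M).Prime →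
    (∀ χ : IrrCharacter G, ¬ M ≤ chKer χ → ∃ d : ℕ, NDeg L d ∧ charDegree (χ : G → ℂ) = Nat.card M * d) → False

/-- the noncentral case -/
def NoncentralOK (L : Type v) [Group L] : Prop :=
  ∀ (G : Type u) [Group G] [Finite G] (M : Subgroup G) [M.Normal] (_ : G ⧸ M ≃* L), commutator G = ⊤ →
    M ≠ ⊥ → (∀ J : Subgroup G, J.Normal → J ≤ M → J = ⊥ ∨ J = M) → (∀ x ∈ M, ∀ y ∈ M, Commute x y) →
    ¬ M ≤ center G → Nat.card M ^ 2 ∣ Nat.card L →
    (∀ χ : IrrCharacter G, ¬ M ≤ chKer χ → ∃ d : ℕ, NDeg L d ∧ charDegree (χ : G → ℂ) = Nat.card M * d) → False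

variable {L : Type v} [Group L] [Finite L] [IsSimpleGroup L] {G : Type u} [Group G] [Finite G]

theorem minimal_false (hL : ¬ ∀ a b : L, a * b = b * a) (h : CodOK L G) (hp : commutator G = ⊤)
    (hS : ∀ (S : Type u) [Group S] [Finite S] [IsSimpleGroup S], ¬ (∀ a b : S, a * b = b * a) → CodOK L S →
      Nat.card S = Nat.card L)
    (hSch : ∀ (K : Type u) [Group K] [Finite K] [IsSimpleGroup K], ¬ IsMulCommutative K → Cfsg.Agent.Schreier.Basic.Sch K)
    (hev : ∀ (K : Type u) [Group K] [Finite K] [IsSimpleGroup K], ¬ IsMulCommutative K → 2 ∣ Nat.card K)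
    (hC : CentralOK.{u} L) (hN : NoncentralOK.{u} L)
    (M : Subgroup G) [hM : M.Normal] (e : G ⧸ M ≃* L) (hM1 : M ≠ ⊥)
    (hmin : ∀ J : Subgroup G, J.Normal → J ≤ M → J = ⊥ ∨ J = M) : False := by
  have hu : ∀ K : Subgroup G, K.Normal → K ≠ ⊥ → M ≤ K := fun K hK hK1 => uniq hL h hp hS M e hM1 hmin K hK hK1
  have hsq := sq_dvd h M e hu
  have hab := above h M e hu
  by_cases hcomm : ∀ x ∈ M, ∀ y ∈ M, Commute x y
  · by_cases hMc : M ≤ center G
    · exact hC G M e hp hMc (central M hM1 hmin hMc) hab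
    · exact hN G M e hp hM1 hmin hcomm hMc hsq hab
  · exact nonab_false hp hSch hev M e hmin hu hsq hcomm

theorem reduce (hL : ¬ ∀ a b : L, a * b = b * a) [Nontrivial G] (h : CodOK L G)
    (hS : ∀ (S : Type u) [Group S] [Finite S] [IsSimpleGroup S], ¬ (∀ a b : S, a * b = b * a) → CodOK L S →
      Nonempty (S ≃* L))
    (hSch : ∀ (K : Type u) [Group K] [Finite K] [IsSimpleGroup K], ¬ IsMulCommutative K → Cfsg.Agent.Schreier.Basic.Sch K)
    (hev : ∀ (K : Type u) [Group K] [Finite K] [IsSimpleGroup K], ¬ IsMulCommutative K → 2 ∣ Nat.card K)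
    (hC : CentralOK.{u} L) (hN : NoncentralOK.{u} L) : Nonempty (G ≃* L) := by
  classical
  have hp := h.perfect hL
  -- a maximal normal subgroup
  obtain ⟨M0, hM0, hmax⟩ : ∃ M0 : Subgroup G, (M0.Normal ∧ M0 ≠ ⊤) ∧ ∀ J : Subgroup G, J.Normal → M0 ≤ J → J ≠ ⊤ → J = M0 := by
    obtain ⟨M0, h1⟩ := (Set.toFinite {J : Subgroup G | J.Normal ∧ J ≠ ⊤}).exists_maximal
      ⟨⊥, inferInstance, fun h => by
        have := (Subgroup.subsingleton_iff (G := G)).1 (subsingleton_of_bot_eq_top h)
        exact not_subsingleton G this⟩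
    exact ⟨M0, h1.1, fun J hJ hle hne => (h1.eq_of_le ⟨hJ, hne⟩ hle).symm⟩
  obtain ⟨hM0n, hM0t⟩ := hM0
  have hQs : IsSimpleGroup (G ⧸ M0) := by
    have hnt : Nontrivial (G ⧸ M0) := by
      rw [← not_subsingleton_iff_nontrivial]
      intro hs
      exact hM0t (QuotientGroup.subgroup_eq_top_of_subsingleton M0 hs)
    constructor
    intro J hJ
    by_cases hc : J.comap (QuotientGroup.mk' M0) = ⊤
    · right
      rw [← Subgroup.map_comap_eq_self_of_surjective (QuotientGroup.mk'_surjective M0) J, hc, ← MonoidHom.range_eq_map,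
        MonoidHom.range_eq_top.2 (QuotientGroup.mk'_surjective M0)]
    · left
      have h1 := hmax _ (hJ.comap _) (by
        intro x hx
        rw [mem_comap, QuotientGroup.mk'_apply, (QuotientGroup.eq_one_iff x).2 hx]
        exact one_mem J) hc
      rw [← Subgroup.map_comap_eq_self_of_surjective (QuotientGroup.mk'_surjective M0) J, h1,
        QuotientGroup.map_mk'_self]
  have hQc : CodOK L (G ⧸ M0) := h.of_surj _ (QuotientGroup.mk'_surjective M0)
  have hQn : ¬ ∀ a b : G ⧸ M0, a * b = b * a := by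
    intro hc
    have h1 := perfect_quot (K := M0) hp
    have h2 : commutator (G ⧸ M0) = ⊥ := by
      rw [eq_bot_iff, commutator_def, commutator_le]
      intro a _ b _
      rw [mem_bot, commutatorElement_eq_one_iff_mul_comm]
      exact hc a b
    rw [h2] at h1
    exact bot_ne_top h1
  obtain ⟨e0⟩ := hS _ hQn hQc
  by_cases hbot : M0 = ⊥
  · subst hbot
    exact ⟨QuotientGroup.quotientBot.symm.trans e0⟩
  · exfalso
    -- a chief factor `M0 / N`
    obtain ⟨N, hN', hmaxN⟩ : ∃ N : Subgroup G, (N.Normal ∧ N < M0) ∧ ∀ J : Subgroup G, J.Normal → N ≤ J → J < M0 → J = N := by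
      obtain ⟨N, h1⟩ := (Set.toFinite {J : Subgroup G | J.Normal ∧ J < M0}).exists_maximal
        ⟨⊥, inferInstance, bot_lt_iff_ne_bot.2 hbot⟩
      exact ⟨N, h1.1, fun J hJ hle hne => (h1.eq_of_le ⟨hJ, hne⟩ hle).symm⟩
    obtain ⟨hNn, hNlt⟩ := hN'
    have hMn : (M0.map (QuotientGroup.mk' N)).Normal := hM0n.map _ (QuotientGroup.mk'_surjective N)
    let e1 : (G ⧸ N) ⧸ M0.map (QuotientGroup.mk' N) ≃* L :=
      (QuotientGroup.quotientQuotientEquivQuotient N M0 hNlt.le).trans e0
    refine minimal_false hL (h.of_surj _ (QuotientGroup.mk'_surjective N)) (perfect_quot (K := N) hp)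
      (fun S _ _ _ hSa hSc => by
        obtain ⟨f⟩ := hS S hSa hSc
        exact Nat.card_congr f.toEquiv) hSch hev hC hN
      (M0.map (QuotientGroup.mk' N)) e1 ?_ ?_
    · intro h1
      rw [Subgroup.map_eq_bot_iff, QuotientGroup.ker_mk'] at h1
      exact absurd h1 hNlt.not_ge
    · intro J hJ hJM
      have hJc : J = (J.comap (QuotientGroup.mk' N)).map (QuotientGroup.mk' N) :=
        (Subgroup.map_comap_eq_self_of_surjective (QuotientGroup.mk'_surjective N) J).symm
      have h1 : N ≤ J.comap (QuotientGroup.mk' N) := by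
        intro x hx
        rw [mem_comap, QuotientGroup.mk'_apply, (QuotientGroup.eq_one_iff x).2 hx]
        exact one_mem J
      have h2 : J.comap (QuotientGroup.mk' N) ≤ M0 := by
        intro x hx
        obtain ⟨y, hy, hyx⟩ := hJM hx
        have h4 : y⁻¹ * x ∈ N := QuotientGroup.eq.1 hyx
        have h5 : x = y * (y⁻¹ * x) := by group
        rw [h5]
        exact mul_mem hy (hNlt.le h4)
      rcases h2.lt_or_eq with h4 | h4
      · left
        rw [hJc, hmaxN _ (hJ.comap _) h1 h4, QuotientGroup.map_mk'_self]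
      · right
        rw [hJc, h4]

end Cfsg.Agent.H850.Cod
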