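import Cfsg.Agent.H850.Cod.Char

/-!
# Noncentral minimal normal `p`-subgroups: `F₄`, `E₆`, `E₇`, `E₈` (helper850, S3539)

`char_four` : the result.
-/

set_option autoImplicit false
set_option linter.unusedSectionVars false

universe u v

namespace Cfsg.Agent.H850.Cod.Char

open CoxeterSystem Cfsg.Agent.ChevalleyStructure.CoxeterGeom Cfsg.Agent.Tits.Roots Cfsg.Agent.Tits.Core
  Cfsg.Agent.Nodes.Reps Cfsg.Agent.Nodes.BNOf Cfsg.Agent.Nodes.Bruhat Cfsg.Agent.Nodes.LeviDec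
  Cfsg.Agent.Nodes.StabComb Cfsg.Agent.Nodes.Unique Cfsg.Agent.Nodes.CardSup Cfsg.Agent.Nodes.RGDChev
  Cfsg.Agent.H62.PPIdx Cfsg.Agent.H62.PPChev
open Cfsg.Lie Cfsg.Agent.ChevalleyStructure Cfsg.Agent.ChevalleyStructure.Elts
  Cfsg.Agent.ChevalleyStructure.RootVec
open Cfsg Cfsg.Agent.Characters.Core Cfsg.Agent.H686.CharKit
open Cfsg.Agent.H850.Cod.Levi Cfsg.Agent.H850.Cod.Par Cfsg.Agent.H65.UnivE Cfsg.Agent.H850.Cod.LiftJ
  Cfsg.Agent.H850.Cod.LiftD

theorem range_castSucc (n : ℕ) : Set.range (Fin.castSuccEmb : Fin n ↪ Fin (n + 1)) = {Fin.last n}ᶜ := by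
  ext k
  rw [Set.mem_compl_iff, Set.mem_singleton_iff]
  constructor
  · rintro ⟨j, rfl⟩
    exact (Fin.castSucc_lt_last j).ne
  · intro hk
    exact ⟨k.castPred hk, Fin.castSucc_castPred k hk⟩

theorem range_succ (n : ℕ) : Set.range (Fin.succEmb n) = {(0 : Fin (n + 1))}ᶜ := by
  ext k
  rw [Set.mem_compl_iff, Set.mem_singleton_iff]
  constructor
  · rintro ⟨j, rfl⟩
    exact Fin.succ_ne_zero j
  · intro hk
    exact ⟨k.pred hk, Fin.succ_pred k hk⟩

section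

variable (K : Type v) [Field K] [Fintype K]

theorem f4OK : ∀ i : Fin 4, 24 ≤ 2 * num chevF4 i := by decide +kernel

theorem e6OK : ∀ i : Fin 6, i = 0 ∨ i = 5 ∨ 36 ≤ 2 * num chevE6 i := by decide +kernel
theorem e6OK0 : ∀ j : Fin 6, j ≠ 0 → 36 ≤ 2 * num2 chevE6 (0 : Fin 6) j := by decide +kernel
theorem e6OK5 : ∀ j : Fin 6, j ≠ 5 → 36 ≤ 2 * num2 chevE6 (5 : Fin 6) j := by decide +kernel

theorem e7OK : ∀ i : Fin 7, i = 6 ∨ 63 ≤ 2 * num chevE7 i := by decide +kernel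
theorem e7OK6 : ∀ j : Fin 7, j ≠ 6 → 63 ≤ 2 * num2 chevE7 (6 : Fin 7) j := by decide +kernel

theorem e8OK : ∀ i : Fin 8, i = 7 ∨ 120 ≤ 2 * num chevE8 i := by decide +kernel
theorem e8OK7 : ∀ j : Fin 8, j ≠ 7 → 120 ≤ 2 * num2 chevE8 (7 : Fin 8) j := by decide +kernel

theorem nodeE6 (p : ℕ) [Fact p.Prime] [CharP K p] (i : Fin 6) : NodeOK.{u} typE6.hp K 36 i := by
  rcases e6OK i with rfl | rfl | h
  · right
    refine ⟨e6OK0, ?_⟩
    rw [← range_succ 5]
    exact exists_UJ_0 K _ p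
  · right
    refine ⟨e6OK5, ?_⟩
    rw [show ({5}ᶜ : Set (Fin 6)) = Set.range (Fin.castSuccEmb : Fin 5 ↪ Fin 6) from (range_castSucc 5).symm]
    exact exists_UJ_5 K _ p
  · exact Or.inl h

theorem nodeE7 (p : ℕ) [Fact p.Prime] [CharP K p] (i : Fin 7) : NodeOK.{u} typE7.hp K 63 i := by
  rcases e7OK i with rfl | h
  · right
    refine ⟨e7OK6, ?_⟩
    rw [show ({6}ᶜ : Set (Fin 7)) = Set.range (Fin.castSuccEmb : Fin 6 ↪ Fin 7) from (range_castSucc 6).symm]
    exact exists_UJ_typ typE7 K _ typE6 Fin.castSuccEmb hM_E7 hA_E7 (p := p)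
  · exact Or.inl h

theorem nodeE8 (p : ℕ) [Fact p.Prime] [CharP K p] (i : Fin 8) : NodeOK.{u} typE8.hp K 120 i := by
  rcases e8OK i with rfl | h
  · right
    refine ⟨e8OK7, ?_⟩
    rw [show ({7}ᶜ : Set (Fin 8)) = Set.range (Fin.castSuccEmb : Fin 7 ↪ Fin 8) from (range_castSucc 7).symm]
    exact exists_UJ_typ typE8 K _ typE7 Fin.castSuccEmb hM_E8 hA_E8 (p := p)
  · exact Or.inl h

end

variable {K : Type v} [Field K] [Fintype K]

/-- **noncentral minimal normal `p`-subgroups** -/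
theorem char_four (p : ℕ) [hpp : Fact p.Prime] [CharP K p] {D : ChevalleyDatum}
    (hD : D ∈ [chevF4, chevE6, chevE7, chevE8])
    {G : Type u} [Group G] [Finite G] (A : Subgroup G) [hA : A.Normal] {f : G →* ↥(D.group K)}
    (hf : Function.Surjective f) (hk : ∀ g, f g = 1 ↔ g ∈ A) (hA1 : A ≠ ⊥)
    (hmin : ∀ J : Subgroup G, J.Normal → J ≤ A → J = ⊥ ∨ J = A)
    (hab : ∀ x ∈ A, ∀ y ∈ A, Commute x y) (hnc : ¬ A ≤ Subgroup.center G) (hAp : IsPGroup p A)
    (hsq : Nat.card A ^ 2 ∣ Nat.card ↥(D.group K))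
    (hdeg : ∀ χ : IrrCharacter G, ¬ A ≤ chKer χ → Nat.card A ∣ charDegree (χ : G → ℂ)) : False := by
  simp only [List.mem_cons, List.not_mem_nil, or_false] at hD
  rcases hD with rfl | rfl | rfl | rfl
  · refine char_of (M := CoxeterMatrix.F₄) (by simp [IsType, typeList]) p (N := 24) (ds := [2, 6, 8, 12]) (by decide) ?_
      (fun i => Or.inl (f4OK i)) A hf hk hA1 hmin hab hnc hAp hsq hdeg
    rw [Cfsg.Agent.S1062.result (F := K) rfl]
    refine dvd_of_eq ?_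
    simp only [List.map_cons, List.map_nil, List.prod_cons, List.prod_nil]
    ring
  · refine char_of typE6.hp p (N := 36) (ds := [2, 5, 6, 8, 9, 12]) (by decide) ?_
      (nodeE6 K p) A hf hk hA1 hmin hab hnc hAp hsq hdeg
    refine Dvd.intro_left (Nat.gcd 3 (Fintype.card K - 1)) ?_
    rw [Cfsg.Agent.S1063.result (F := K) rfl]
    simp only [List.map_cons, List.map_nil, List.prod_cons, List.prod_nil]
    ring
  · refine char_of typE7.hp p (N := 63) (ds := [2, 6, 8, 10, 12, 14, 18]) (by decide) ?_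
      (nodeE7 K p) A hf hk hA1 hmin hab hnc hAp hsq hdeg
    refine Dvd.intro_left (Nat.gcd 2 (Fintype.card K - 1)) ?_
    rw [Cfsg.Agent.S1064.result (F := K) rfl]
    simp only [List.map_cons, List.map_nil, List.prod_cons, List.prod_nil]
    ring
  · refine char_of typE8.hp p (N := 120) (ds := [2, 8, 12, 14, 18, 20, 24, 30]) (by decide) ?_
      (nodeE8 K p) A hf hk hA1 hmin hab hnc hAp hsq hdeg
    rw [Cfsg.Agent.S1065.result (F := K) rfl]
    refine dvd_of_eq ?_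
    simp only [List.map_cons, List.map_nil, List.prod_cons, List.prod_nil]
    ring

end Cfsg.Agent.H850.Cod.Char
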