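import Mathlib

/-!
# Linear characters of an abelian normal `p`-subgroup (helper850, S3539)

* `stab M lam` : the stabiliser of the linear character `lam` of the normal subgroup `M`
* `index_stab_lt` : the index of the stabiliser of a nontrivial linear character of an abelian `M` is smaller than `|M|`
* `exists_fixed` : a `p`-subgroup fixes a nontrivial linear character of an abelian `p`-group `M ≠ 1`
* `exists_ext` : extension of an invariant linear character
-/

set_option autoImplicit false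
set_option linter.unusedSectionVars false

universe u v

namespace Cfsg.Agent.H850.Cod.Dual

open Subgroup

variable {G : Type u} [Group G] (M : Subgroup G) [hM : M.Normal]

/-- the conjugate of a linear character -/
noncomputable def cjc (g : G) (lam : M →* ℂˣ) : M →* ℂˣ := lam.comp (MulAut.conjNormal g⁻¹ : MulAut M).toMonoidHom

theorem cjc_apply (g : G) (lam : M →* ℂˣ) (x : M) :
    cjc M g lam x = lam ⟨g⁻¹ * x * g, by simpa using hM.conj_mem x x.2 g⁻¹⟩ := by
  rw [cjc, MonoidHom.comp_apply]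
  congr 1
  apply Subtype.ext
  simp

/-- the action on the linear characters -/
@[reducible] noncomputable def cAct : MulAction G (M →* ℂˣ) where
  smul g lam := cjc M g lam
  one_smul lam := by
    show cjc M 1 lam = lam
    ext x
    rw [cjc_apply]
    simp
  mul_smul a b lam := by
    show cjc M (a * b) lam = cjc M a (cjc M b lam)
    apply MonoidHom.ext
    intro x
    rw [cjc_apply, cjc_apply, cjc_apply]
    congr 1
    apply Subtype.ext
    simp [mul_assoc]

/-- the stabiliser -/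
noncomputable def stab (lam : M →* ℂˣ) : Subgroup G := letI := cAct M; MulAction.stabilizer G lam

theorem mem_stab {lam : M →* ℂˣ} {g : G} : g ∈ stab M lam ↔ cjc M g lam = lam := Iff.rfl

/-- elementwise form -/
theorem stab_inv {lam : M →* ℂˣ} {g : G} (hg : g ∈ stab M lam) {x : G} (hx : x ∈ M) (hx' : g⁻¹ * x * g ∈ M) :
    lam ⟨g⁻¹ * x * g, hx'⟩ = lam ⟨x, hx⟩ := by
  have h1 := DFunLike.congr_fun ((mem_stab M).1 hg) ⟨x, hx⟩
  rw [cjc_apply] at h1
  exact h1

theorem stab_inv' {lam : M →* ℂˣ} {g : G} (hg : g ∈ stab M lam) {x : G} (hx : x ∈ M) (hx' : g * x * g⁻¹ ∈ M) :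
    lam ⟨g * x * g⁻¹, hx'⟩ = lam ⟨x, hx⟩ := by
  have h1 := stab_inv M (inv_mem hg) hx (by rwa [inv_inv])
  have h2 : (⟨g * x * g⁻¹, hx'⟩ : M) = ⟨g⁻¹⁻¹ * x * g⁻¹, by rwa [inv_inv]⟩ := Subtype.ext (by simp)
  rw [h2, h1]

/-- the type of linear characters of a commutative group -/
theorem card_hom {A : Type u} [Group A] [Finite A] (hab : ∀ x y : A, x * y = y * x) :
    Nat.card (A →* ℂˣ) = Nat.card A ∧ Finite (A →* ℂˣ) := by
  let _ : CommGroup A := { (inferInstance : Group A) with mul_comm := hab }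
  have h0 : NeZero (Monoid.exponent A : ℂ) := ⟨by exact_mod_cast Monoid.exponent_ne_zero_of_finite⟩
  obtain ⟨e⟩ := CommGroup.monoidHom_mulEquiv_of_hasEnoughRootsOfUnity A ℂ
  exact ⟨Nat.card_congr e.toEquiv, Finite.of_equiv _ e.symm.toEquiv⟩

variable [Finite G]

theorem index_stab_lt (hab : ∀ x ∈ M, ∀ y ∈ M, Commute x y) {lam : M →* ℂˣ} (hlam : lam ≠ 1) :
    (stab M lam).index < Nat.card M := by
  let _ := cAct M
  obtain ⟨h1, h2⟩ := card_hom (A := M) fun x y => Subtype.ext (hab x x.2 y y.2)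
  rw [← h1]
  have h3 : (stab M lam).index = Nat.card (MulAction.orbit G lam) := by
    rw [Subgroup.index_eq_card]
    exact Nat.card_congr (MulAction.orbitEquivQuotientStabilizer G lam).symm
  rw [h3]
  have h4 : (1 : M →* ℂˣ) ∉ MulAction.orbit G lam := by
    rintro ⟨g, hg⟩
    apply hlam
    have hg' : g • lam = 1 := hg
    have e1 : lam = g⁻¹ • (1 : M →* ℂˣ) := by rw [← hg', inv_smul_smul]
    rw [e1]
    show cjc M g⁻¹ 1 = 1
    ext x
    rw [cjc_apply]
    rfl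
  have h5 : Nat.card (MulAction.orbit G lam) < Nat.card (Set.univ : Set (M →* ℂˣ)) := by
    rw [Nat.card_coe_set_eq, Nat.card_coe_set_eq]
    exact Set.ncard_lt_ncard ⟨Set.subset_univ _, fun h => h4 (h (Set.mem_univ _))⟩ (Set.toFinite _)
  rwa [Nat.card_univ] at h5

theorem exists_fixed {p : ℕ} [Fact p.Prime] (hab : ∀ x ∈ M, ∀ y ∈ M, Commute x y) (hp : IsPGroup p M) (h1 : M ≠ ⊥)
    {P : Subgroup G} (hP : IsPGroup p P) : ∃ lam : M →* ℂˣ, lam ≠ 1 ∧ P ≤ stab M lam := by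
  let _ := cAct M
  obtain ⟨h2, h3⟩ := card_hom (A := M) fun x y => Subtype.ext (hab x x.2 y y.2)
  have h4 : p ∣ Nat.card (M →* ℂˣ) := by
    rw [h2]
    obtain ⟨n, hn⟩ := IsPGroup.iff_card.1 hp
    rw [hn]
    have : n ≠ 0 := by
      rintro rfl
      rw [pow_zero] at hn
      exact h1 ((Subgroup.card_eq_one).1 hn)
    exact dvd_pow_self p this
  have h5 : (1 : M →* ℂˣ) ∈ MulAction.fixedPoints P (M →* ℂˣ) := by
    intro g
    show cjc M g 1 = 1
    ext x
    rw [cjc_apply]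
    rfl
  obtain ⟨lam, h6, h7⟩ := hP.exists_fixed_point_of_prime_dvd_card_of_fixed_point (M →* ℂˣ) h4 h5
  exact ⟨lam, h7.symm, fun g hg => h6 ⟨g, hg⟩⟩

/-- **extension of an invariant linear character** -/
theorem exists_ext {lam : M →* ℂˣ} {P V : Subgroup G} (hV : V ≤ stab M lam)
    (h1 : ∀ (x : G) (hx : x ∈ M), x ∈ V → lam ⟨x, hx⟩ = 1) (hdec : ∀ g ∈ P, ∃ v ∈ V, ∃ m ∈ M, g = v * m) :
    ∃ φ : P →* ℂˣ, ∀ (x : G) (hx : x ∈ M) (hx' : x ∈ P), φ ⟨x, hx'⟩ = lam ⟨x, hx⟩ := by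
  classical
  have hdec' : ∀ g : P, ∃ (v m : G), v ∈ V ∧ m ∈ M ∧ (g : G) = v * m := by
    intro g
    obtain ⟨v, hv, m, hm, e⟩ := hdec g g.2
    exact ⟨v, m, hv, hm, e⟩
  choose v m hv hm he using hdec'
  have huniq : ∀ (g : P) (a b : G) (_ : a ∈ V) (hb : b ∈ M), (g : G) = a * b → lam ⟨m g, hm g⟩ = lam ⟨b, hb⟩ := by
    intro g a b ha hb e
    have e1 : a⁻¹ * v g = b * (m g)⁻¹ := by
      have e2 : v g * m g = a * b := by rw [← he, e]
      calc a⁻¹ * v g = a⁻¹ * (v g * m g) * (m g)⁻¹ := by group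
        _ = b * (m g)⁻¹ := by rw [e2]; group
    have h2 : b * (m g)⁻¹ ∈ V := by rw [← e1]; exact mul_mem (inv_mem ha) (hv g)
    have h3 := h1 (b * (m g)⁻¹) (mul_mem hb (inv_mem (hm g))) h2
    have h4 : (⟨b * (m g)⁻¹, mul_mem hb (inv_mem (hm g))⟩ : M) = ⟨b, hb⟩ * ⟨m g, hm g⟩⁻¹ := rfl
    rw [h4, map_mul, map_inv, mul_inv_eq_one] at h3
    exact h3.symm
  refine ⟨⟨⟨fun g => lam ⟨m g, hm g⟩, ?_⟩, ?_⟩, ?_⟩
  · rw [huniq 1 1 1 (one_mem V) (one_mem M) (by simp)]
    exact map_one lam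
  · intro g g'
    have e1 : ((g * g' : P) : G) = (v g * v g') * (((v g')⁻¹ * m g * v g') * m g') := by
      rw [Subgroup.coe_mul, he g, he g']
      group
    have h2 : (v g')⁻¹ * m g * v g' ∈ M := by simpa using hM.conj_mem _ (hm g) (v g')⁻¹
    show lam ⟨m (g * g'), hm (g * g')⟩ = lam ⟨m g, hm g⟩ * lam ⟨m g', hm g'⟩
    rw [huniq (g * g') _ _ (mul_mem (hv g) (hv g')) (mul_mem h2 (hm g')) e1]
    have h3 : (⟨(v g')⁻¹ * m g * v g' * m g', mul_mem h2 (hm g')⟩ : M) = ⟨(v g')⁻¹ * m g * v g', h2⟩ * ⟨m g', hm g'⟩ := rfl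
    rw [h3, map_mul, stab_inv M (hV (hv g')) (hm g) h2]
  · intro x hx hx'
    exact huniq ⟨x, hx'⟩ 1 x (one_mem V) hx (by simp)

end Cfsg.Agent.H850.Cod.Dual
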