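import Cfsg.Agent.H65.Laced
import Cfsg.Agent.H850.Cod.Core

/-!
# The positive part of a simply laced system and its central extensions (helper850, S3539)

* `card_le` : the root elements for a finite set `P` of roots closed under addition generate a group of order at most
  `|F| ^ |P|`
* `split` : if the root elements of `P` generate a subgroup of order `|F| ^ |P|` of `YJ` and the whole system lifts to all
  central extensions of `YJ`, then these split over it
-/

set_option autoImplicit false
set_option linter.unusedSectionVars false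

universe u v w

namespace Cfsg.Agent.H850.Cod.Filt

open Subgroup
open scoped commutatorElement
open Cfsg.Agent.OddHalf.SL.Defs Cfsg.Agent.KFacts.Mult.Calc Cfsg.Agent.H65.Laced

variable {E V F : Type*} [Group E] [AddCommGroup V] [Field F] {B : V → V → ℤ} {Φ : Set V} {N : V → V → F}

/-- the group generated by the root elements of `P` -/
def gp (T : V → F → E) (P : Set V) : Subgroup E := closure {g | ∃ r ∈ P, ∃ a, g = T r a}

theorem mem_gp {T : V → F → E} {P : Set V} {r : V} (hr : r ∈ P) (a : F) : T r a ∈ gp T P :=
  subset_closure ⟨r, hr, a, rfl⟩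

theorem gp_le {T : V → F → E} {P : Set V} {H : Subgroup E} (h : ∀ r ∈ P, ∀ a, T r a ∈ H) : gp T P ≤ H := by
  rw [gp, closure_le]
  rintro g ⟨r, hr, a, rfl⟩
  exact h r hr a

/-- positive closed set of roots -/
structure PosSet (B : V → V → ℤ) (Φ : Set V) (ht : V → ℤ) (P : Finset V) : Prop where
  sub : ∀ r ∈ P, r ∈ Φ
  add : ∀ r ∈ P, ∀ s ∈ P, B r s = -1 → r + s ∈ P
  pos : ∀ r ∈ P, 0 < ht r
  hadd : ∀ r s, ht (r + s) = ht r + ht s

theorem card_le [Finite F] {T : V → F → E} (S : SSys B Φ N T) {ht : V → ℤ} :
    ∀ {n : ℕ} {P : Finset V}, P.card = n → PosSet B Φ ht P → Finite (gp T P) ∧ Nat.card (gp T P) ≤ Nat.card F ^ n := by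
  classical
  intro n
  induction n with
  | zero =>
    intro P hP _
    rw [Finset.card_eq_zero] at hP
    subst hP
    have h1 : gp T ((∅ : Finset V) : Set V) = ⊥ := by
      rw [eq_bot_iff]
      exact gp_le fun r hr => absurd hr (by simp)
    rw [h1]
    exact ⟨inferInstance, by rw [Subgroup.card_bot, pow_zero]⟩
  | succ n ih =>
    intro P hP hPos
    have hR := S.roots
    obtain ⟨s, hs, hmin⟩ := Finset.exists_min_image P ht (Finset.card_pos.1 (by omega))
    have hPos' : PosSet B Φ ht (P.erase s) := by
      refine ⟨fun r hr => hPos.sub r (Finset.mem_of_mem_erase hr), fun r hr t ht' hB => ?_,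
        fun r hr => hPos.pos r (Finset.mem_of_mem_erase hr), hPos.hadd⟩
      have hr' := Finset.mem_of_mem_erase hr
      have ht'' := Finset.mem_of_mem_erase ht'
      refine Finset.mem_erase.2 ⟨?_, hPos.add r hr' t ht'' hB⟩
      intro h1
      have h2 := hPos.hadd r t
      have h3 := hPos.pos r hr'
      have h4 := hmin t ht''
      rw [h1] at h2
      omega
    obtain ⟨hfin, hcard⟩ := ih (P := P.erase s) (by rw [Finset.card_erase_of_mem hs]; omega) hPos'
    have hsΦ := hPos.sub s hs
    -- `T s a` normalises the group of the other roots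
    have hnorm : ∀ a : F, ∀ c ∈ gp T ((P.erase s : Finset V) : Set V), T s a * c * (T s a)⁻¹ ∈
        gp T ((P.erase s : Finset V) : Set V) := by
      intro a c hc
      have h1 : gp T ((P.erase s : Finset V) : Set V) ≤ (gp T ((P.erase s : Finset V) : Set V)).comap
          (MulAut.conj (T s a)).toMonoidHom := by
        refine gp_le fun r hr b => ?_
        have hr1 : r ∈ P.erase s := hr
        have hr' := Finset.mem_of_mem_erase hr1
        have hrΦ := hPos.sub r hr'
        show T s a * T r b * (T s a)⁻¹ ∈ gp T ((P.erase s : Finset V) : Set V)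
        by_cases h0 : 0 ≤ B s r
        · rw [(S.one s hsΦ r hrΦ h0 a b).eq, mul_inv_cancel_right]
          exact mem_gp hr b
        · have h2 := hR.ge hsΦ hrΦ
          have h3 : B s r = -1 := by
            by_contra h4
            have h5 : B s r = -2 := by omega
            have h6 := hR.eq_neg hsΦ hrΦ h5
            have h7 := hPos.pos s hs
            have h8 := hPos.pos r hr'
            have h9 := hPos.hadd s r
            rw [h6, neg_add_cancel] at h9
            have h10 := hPos.hadd 0 0
            rw [add_zero] at h10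
            rw [h6] at h7
            omega
          have h4 : s + r ∈ P.erase s := by
            refine Finset.mem_erase.2 ⟨?_, hPos.add s hs r hr' h3⟩
            intro h5
            have h6 := hPos.hadd s r
            have h7 := hPos.pos r hr'
            rw [h5] at h6
            omega
          have h5 : T s a * T r b * (T s a)⁻¹ = ⁅T s a, T r b⁆ * T r b := by
            rw [commutatorElement_def]; group
          rw [h5, S.comm s hsΦ r hrΦ h3]
          exact mul_mem (mem_gp (Finset.mem_coe.2 h4) _) (mem_gp hr b)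
      exact h1 hc
    -- decomposition
    have hdec : ∀ g ∈ gp T (P : Set V), ∃ a : F, ∃ c ∈ gp T ((P.erase s : Finset V) : Set V), g = T s a * c := by
      have hone : T s 0 = 1 := S.zero hsΦ
      let H : Subgroup E :=
        { carrier := {g | ∃ a : F, ∃ c ∈ gp T ((P.erase s : Finset V) : Set V), g = T s a * c}
          one_mem' := ⟨0, 1, one_mem _, by rw [hone, one_mul]⟩
          mul_mem' := by
            rintro _ _ ⟨a, c, hc, rfl⟩ ⟨b, d, hd, rfl⟩
            refine ⟨a + b, (T s b)⁻¹ * c * T s b * d, mul_mem ?_ hd, ?_⟩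
            · have := hnorm (-b) c hc
              rwa [S.neg hsΦ, inv_inv] at this
            · rw [S.add s hsΦ]; group
          inv_mem' := by
            rintro _ ⟨a, c, hc, rfl⟩
            refine ⟨-a, T s a * c⁻¹ * (T s a)⁻¹, hnorm a _ (inv_mem hc), ?_⟩
            rw [S.neg hsΦ]; group }
      have h1 : gp T (P : Set V) ≤ H := by
        refine gp_le fun r hr a => ?_
        by_cases hrs : r = s
        · subst hrs
          exact ⟨a, 1, one_mem _, by rw [mul_one]⟩
        · exact ⟨0, T r a, mem_gp (Finset.mem_coe.2 (Finset.mem_erase.2 ⟨hrs, hr⟩)) a, by rw [hone, one_mul]⟩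
      exact fun g hg => h1 hg
    have hsub : ∀ (a : F) (c : E), c ∈ gp T ((P.erase s : Finset V) : Set V) → T s a * c ∈ gp T (P : Set V) := by
      intro a c hc
      refine mul_mem (mem_gp (Finset.mem_coe.2 hs) a) ?_
      exact gp_le (fun r hr b => mem_gp (Finset.mem_coe.2 (Finset.mem_of_mem_erase (Finset.mem_coe.1 hr))) b) hc
    let φ : F × gp T ((P.erase s : Finset V) : Set V) → gp T (P : Set V) := fun x => ⟨T s x.1 * x.2, hsub x.1 _ x.2.2⟩
    have hφ : Function.Surjective φ := by
      rintro ⟨g, hg⟩
      obtain ⟨a, c, hc, rfl⟩ := hdec g hg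
      exact ⟨(a, ⟨c, hc⟩), rfl⟩
    refine ⟨Finite.of_surjective φ hφ, ?_⟩
    calc Nat.card (gp T (P : Set V)) ≤ Nat.card (F × gp T ((P.erase s : Finset V) : Set V)) :=
          Nat.card_le_card_of_surjective φ hφ
      _ = Nat.card F * Nat.card (gp T ((P.erase s : Finset V) : Set V)) := Nat.card_prod _ _
      _ ≤ Nat.card F * Nat.card F ^ n := Nat.mul_le_mul_left _ hcard
      _ = Nat.card F ^ (n + 1) := by rw [pow_succ, mul_comm]

/-- **the central extensions of `YJ` split over the positive part** -/
theorem split {Y : Type v} [Group Y] [Finite Y] [Finite F] {YJ : Subgroup Y} {x : V → F → YJ} {ht : V → ℤ} {P : Finset V}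
    (hP : PosSet B Φ ht P)
    (hlift : ∀ (E : Type u) [Group E] [Finite E] (π : E →* YJ), CE π →
      ∃ T : V → F → E, SSys B Φ N T ∧ ∀ r ∈ Φ, ∀ a, π (T r a) = x r a)
    (hcard : Nat.card F ^ P.card ≤ Nat.card (gp (fun r a => (x r a : Y)) (P : Set V))) :
    Split.{u} YJ (gp (fun r a => (x r a : Y)) (P : Set V)) := by
  classical
  intro E _ _ π hπ
  obtain ⟨T, hT, hTx⟩ := hlift E π hπ
  refine ⟨gp T (P : Set V), ?_, ?_⟩
  · -- `π` is injective on it
    obtain ⟨-, h1⟩ := card_le hT rfl hP
    set V0 := gp T (P : Set V) with hV0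
    let f : V0 →* Y := (YJ.subtype.comp π).comp V0.subtype
    have hrange : f.range = gp (fun r a => (x r a : Y)) (P : Set V) := by
      apply le_antisymm
      · rintro _ ⟨⟨g, hg⟩, rfl⟩
        have h2 : V0 ≤ (gp (fun r a => (x r a : Y)) (P : Set V)).comap (YJ.subtype.comp π) := by
          refine gp_le fun r hr a => ?_
          show (π (T r a) : Y) ∈ gp (fun r a => (x r a : Y)) (P : Set V)
          rw [hTx r (hP.sub r hr)]
          exact mem_gp (T := fun r a => (x r a : Y)) hr a
        exact h2 hg
      · refine gp_le fun r hr a => ⟨⟨T r a, mem_gp hr a⟩, ?_⟩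
        show (π (T r a) : Y) = _
        rw [hTx r (hP.sub r hr)]
    have h2 : Nat.card V0 ≤ Nat.card f.range := by
      rw [hrange]
      exact h1.trans hcard
    have h3 : Function.Injective f := by
      have h4 : Function.Bijective f.rangeRestrict := by
        refine (Nat.bijective_iff_surjective_and_card f.rangeRestrict).2 ⟨f.rangeRestrict_surjective, le_antisymm h2 ?_⟩
        exact Nat.card_le_card_of_surjective f.rangeRestrict f.rangeRestrict_surjective
      intro a b hab
      exact h4.1 (Subtype.ext hab)
    intro g hg hg1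
    have h4 : f ⟨g, hg⟩ = f 1 := by
      show (π g : Y) = (π 1 : Y)
      rw [hg1, map_one]
    exact congrArg Subtype.val (h3 h4)
  · apply le_antisymm
    · rw [Subgroup.map_le_iff_le_comap]
      refine gp_le fun r hr a => ?_
      show (π (T r a) : Y) ∈ gp (fun r a => (x r a : Y)) (P : Set V)
      rw [hTx r (hP.sub r hr)]
      exact mem_gp (T := fun r a => (x r a : Y)) hr a
    · refine gp_le fun r hr a => ⟨T r a, mem_gp hr a, ?_⟩
      show (π (T r a) : Y) = _
      rw [hTx r (hP.sub r hr)]

end Cfsg.Agent.H850.Cod.Filt
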