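import Cfsg.Agent.H850.Cod.Lift
import Cfsg.Agent.H850.Cod.Levi
import Cfsg.Agent.H65.UnivE

/-!
# Central extensions of the standard Levi subgroups `D₅ ⊂ E₆`, `E₆ ⊂ E₇`, `E₇ ⊂ E₈` (helper850, S3539)
-/

set_option autoImplicit false
set_option linter.unusedSectionVars false

universe u v

namespace Cfsg.Agent.H850.Cod.LiftJ

open CoxeterSystem Cfsg.Agent.ChevalleyStructure.CoxeterGeom Cfsg.Agent.Tits.Roots Cfsg.Agent.Tits.Core
  Cfsg.Agent.Tits.RootComb Cfsg.Agent.Nodes.Comb Cfsg.Agent.Nodes.Reps Cfsg.Agent.Nodes.BNOf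
  Cfsg.Agent.Nodes.StabComb Cfsg.Agent.Nodes.Bruhat Cfsg.Agent.Nodes.LeviDec Cfsg.Agent.Nodes.SubComb
  Cfsg.Agent.Nodes.Sub Cfsg.Agent.Nodes.Unique Cfsg.Agent.Nodes.CardSup Cfsg.Agent.Nodes.LeviStd
  Cfsg.Agent.OddHalf.SL.Index Cfsg.Agent.OddHalf.SL Cfsg.Agent.KFacts
open Cfsg.Lie Cfsg.Agent.ChevalleyStructure.RootVecTab Cfsg.Agent.ChevalleyStructure.RootVec
  Cfsg.Agent.ChevalleyStructure.Elts Cfsg.Agent.ChevalleyStructure Cfsg.Agent.Nodes.RGDChev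
  Cfsg.Agent.ChevalleyStructure.CoxeterGeomTypes
open Cfsg.Agent.OddHalf.SL.Defs Cfsg.Agent.KFacts.Mult.Calc Cfsg.Agent.H65.Laced Cfsg.Agent.H850.Cod.Filt
  Cfsg.Agent.H65.UnivE Cfsg.Agent.H850.Cod.Levi Cfsg.Agent.H850.Cod.Lift Cfsg.Agent.H850.Cod.BadPair
  Cfsg.Agent.KFacts.Mult.LacedE Cfsg.Agent.KFacts.Mult.LacedRGD

section

variable {D : ChevalleyDatum} {l : ℕ} {M : CoxeterMatrix (Fin l)} {k₁ r₁ : ℕ} (T : Typ D l M k₁ r₁) (K : Type v)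
  [Field K] [Fintype K] {W : Type*} [Group W] (cs : CoxeterSystem M W) {l' : ℕ} {M' : CoxeterMatrix (Fin l')}
  {A' : Fin l' → Fin l' → ℤ} (h' : IsCartan M' A') (f : Fin l' ↪ Fin l)

theorem exists_UJ (hM : ∀ i j, M (f i) (f j) = M' i j) (hA : ∀ i j, cartanOf D l (f i) (f j) = A' i j)
    (irr' : ∀ J : Set (Fin l'), J.Nonempty → Jᶜ.Nonempty → ∃ i ∈ J, ∃ j ∈ Jᶜ, M' i j ≠ 2) (h3' : 3 ≤ l')
    {r₀ : Fin l' → ℤ} (hr₀ : IsRoot M'.toCoxeterSystem h' r₀)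
    (hQ : (∀ i j, M' i j ≠ 4) → (∀ i j, M' i j ≠ 6) → [Finite M'.Group] → PP M'.toCoxeterSystem h' r₀)
    {p : ℕ} [Fact p.Prime] [CharP K p] :
    ∃ UJ : Subgroup ↥(D.group K), UJ ≤ RGD.Sup (XX D l K) (RGD.Pos cs T.hp.isCartan) ∧
      Nat.card (RGD.Sup (XX D l K) (PosJ cs T.hp.isCartan (Set.range f))) ≤ Nat.card UJ ∧
      Split.{u} (YJ T.hp cs K (Set.range f)) UJ := by
  have hW : Finite W := finite_W T.hp cs
  set cs' : CoxeterSystem M' M'.Group := M'.toCoxeterSystem with hcs'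
  have hW' : Finite M'.Group := finite_of cs T.hp.isCartan f hM cs'
  have h4' : ∀ i j, M' i j ≠ 4 := fun i j => by rw [← hM]; exact T.four _ _
  have h6' : ∀ i j, M' i j ≠ 6 := fun i j => by rw [← hM]; exact T.six _ _
  have hR := roots cs' h' h4' h6'
  have S0 := Cfsg.Agent.H65.ChevSys.ssys (K := K) T.hp cs T.four T.six T.pm
  have S1 := ssys_levi (cs := cs) (cs' := cs') (h := T.hp.isCartan) (h' := h') f hM hA hR S0
  have S2 := ssys_of (YJ T.hp cs K (Set.range f)).subtype (Subgroup.subtype_injective _)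
    (e' := xJ T.hp cs f K) (fun r hr t => coe_xJ T.hp cs cs' h' f hM hA hr t) S1
  exact exists_split T.hp cs cs' h' f hM hA hR S2 fun E _ _ π hπ =>
    lift_of_root h4' h6' irr' (by rw [Fintype.card_fin]; exact h3') S2 hr₀ (hQ h4' h6') hπ

end

/-- the condition holds for the tabulated types `E₆`, `E₇`, `E₈` -/
theorem PP_of_typ {D : ChevalleyDatum} {l : ℕ} {M : CoxeterMatrix (Fin l)} {k₁ r₁ : ℕ} (T : Typ D l M k₁ r₁)
    [Finite M.Group] : r₁ < D.nroots ∧ PP M.toCoxeterSystem T.hp.isCartan (vec D l r₁) := by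
  obtain ⟨h0, hQ⟩ := Q_of_chk T.hp M.toCoxeterSystem T.one T.four T.six
  exact ⟨h0, fun s hs h1 => Or.inl (hQ s hs h1)⟩

section typ

variable {D : ChevalleyDatum} {l : ℕ} {M : CoxeterMatrix (Fin l)} {k₁ r₁ : ℕ} (T : Typ D l M k₁ r₁) (K : Type v)
  [Field K] [Fintype K] {W : Type*} [Group W] (cs : CoxeterSystem M W)
  {D' : ChevalleyDatum} {l' : ℕ} {M' : CoxeterMatrix (Fin l')} {k₂ r₂ : ℕ} (T' : Typ D' l' M' k₂ r₂) (f : Fin l' ↪ Fin l)

include T' in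
theorem exists_UJ_typ (hM : ∀ i j, M (f i) (f j) = M' i j)
    (hA : ∀ i j, cartanOf D l (f i) (f j) = cartanOf D' l' i j)
    {p : ℕ} [Fact p.Prime] [CharP K p] :
    ∃ UJ : Subgroup ↥(D.group K), UJ ≤ RGD.Sup (XX D l K) (RGD.Pos cs T.hp.isCartan) ∧
      Nat.card (RGD.Sup (XX D l K) (PosJ cs T.hp.isCartan (Set.range f))) ≤ Nat.card UJ ∧
      Split.{u} (YJ T.hp cs K (Set.range f)) UJ := by
  have hW : Finite M'.Group := finite_W T'.hp M'.toCoxeterSystem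
  exact exists_UJ T K cs T'.hp.isCartan f hM hA T'.irr T'.three (isRoot_vec T'.hp M'.toCoxeterSystem (PP_of_typ T').1)
    (fun _ _ _ => (PP_of_typ T').2)

end typ

theorem hM_E8 : ∀ i j : Fin 7, CoxeterMatrix.E₈ (Fin.castSuccEmb i) (Fin.castSuccEmb j) = CoxeterMatrix.E₇ i j := by
  intro i j; fin_cases i <;> fin_cases j <;> rfl
theorem hA_E8 : ∀ i j : Fin 7, cartanOf chevE8 8 (Fin.castSuccEmb i) (Fin.castSuccEmb j) = cartanOf chevE7 7 i j := by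
  decide +kernel
theorem hM_E7 : ∀ i j : Fin 6, CoxeterMatrix.E₇ (Fin.castSuccEmb i) (Fin.castSuccEmb j) = CoxeterMatrix.E₆ i j := by
  intro i j; fin_cases i <;> fin_cases j <;> rfl
theorem hA_E7 : ∀ i j : Fin 6, cartanOf chevE7 7 (Fin.castSuccEmb i) (Fin.castSuccEmb j) = cartanOf chevE6 6 i j := by
  decide +kernel

end Cfsg.Agent.H850.Cod.LiftJ
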