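import Cfsg.Agent.H850.Cod.Kernel
import Cfsg.Agent.H794.SocleCount
import Cfsg.Agent.H310.PerfTools
import Cfsg.Agent.H189.FeitTits
import Cfsg.Agent.Lib.MinNormalNonabelian

/-!
# Codegrees inside the codegrees of a simple group (helper850, S3539): the minimal normal subgroup

`G` perfect with `CodOK L G`, `M` minimal normal, `G / M ≃* L` (after helper495's `H495.Cod.Nonab`).

* `nonab_false` : `M` is abelian
* `noncentral` : if `M` is abelian and not central, then `|M| = t ^ m`, `t ^ (2 m) ∣ |L|`, and `L` embeds into `GL_m(t)`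
* `central` : if `M` is central, then `|M| = t` is a prime
* `ext_dvd` : if `M ≤ Y ≤ G` and `f : Y →* ℂˣ` is nontrivial on `M`, then `|M|` divides `|G : Y|`
-/

set_option autoImplicit false
set_option linter.unusedSectionVars false

universe u v

namespace Cfsg.Agent.H850.Cod

open Cfsg Cfsg.Agent.Characters.Core Cfsg.Agent.H686.CharKit Subgroup

variable {L : Type v} [Group L] [Finite L] [IsSimpleGroup L] {G : Type u} [Group G] [Finite G]

theorem not_two_pow {n k : ℕ} (hn : n ≠ 0) (hk : n ≤ k) : ¬ 2 ^ k ∣ n.factorial := by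
  intro h
  have h1 := Nat.emultiplicity_two_factorial_lt hn
  have h2 := le_emultiplicity_of_pow_dvd h
  have h3 := lt_of_le_of_lt h2 h1
  have h4 : k < n := by exact_mod_cast h3
  omega

theorem nonab_false (hp : commutator G = ⊤)
    (hSch : ∀ (K : Type u) [Group K] [Finite K] [IsSimpleGroup K], ¬ IsMulCommutative K → Cfsg.Agent.Schreier.Basic.Sch K)
    (hev : ∀ (K : Type u) [Group K] [Finite K] [IsSimpleGroup K], ¬ IsMulCommutative K → 2 ∣ Nat.card K)
    (M : Subgroup G) [hM : M.Normal] (e : G ⧸ M ≃* L)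
    (hmin : ∀ J : Subgroup G, J.Normal → J ≤ M → J = ⊥ ∨ J = M)
    (hu : ∀ K : Subgroup G, K.Normal → K ≠ ⊥ → M ≤ K) (hsq : Nat.card M ^ 2 ∣ Nat.card L)
    (hna : ¬ ∀ x ∈ M, ∀ y ∈ M, Commute x y) : False := by
  classical
  obtain ⟨m, T, φ, hc⟩ := H794.SocleCount.exists_coord M hmin hna
  have hex := hc.exists_perm
  choose s hs using hex
  have hmul : ∀ a b, s (a * b) = s a * s b := by
    intro a b
    ext1 i
    apply hc.inj
    rw [Equiv.Perm.mul_apply, hs, hs, hs, Subgroup.map_map]
    congr 1
    ext x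
    simp [mul_assoc]
  let f : G →* Equiv.Perm (Fin m) := MonoidHom.mk' s hmul
  have hfs : ∀ g, f g = s g := fun g => rfl
  have hMf : M ≤ f.ker := by
    intro x hx
    rw [MonoidHom.mem_ker, hfs]
    ext1 i
    have := hc.simple i
    obtain ⟨t, ht⟩ := exists_ne (1 : T i)
    have h1 : x * (t : G) * x⁻¹ ∈ T (s x i) := by
      rw [hs]
      exact ⟨t, t.2, rfl⟩
    have h2 : x * (t : G) * x⁻¹ ∈ T i := by
      have h3 : φ.symm (Pi.mulSingle i ((φ ⟨x, hx⟩) i * t * ((φ ⟨x, hx⟩) i)⁻¹)) =
          ⟨x, hx⟩ * φ.symm (Pi.mulSingle i t) * ⟨x, hx⟩⁻¹ := by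
        apply φ.injective
        rw [map_mul, map_mul, map_inv, MulEquiv.apply_symm_apply, MulEquiv.apply_symm_apply]
        funext j
        by_cases hj : j = i
        · subst hj
          simp
        · simp [Pi.mulSingle_eq_of_ne hj]
      have h4 := congrArg (Subtype.val) h3
      rw [hc.single] at h4
      have h5 : ((⟨x, hx⟩ * φ.symm (Pi.mulSingle i t) * ⟨x, hx⟩⁻¹ : M) : G) = x * (t : G) * x⁻¹ := by
        rw [Subgroup.coe_mul, Subgroup.coe_mul, hc.single]
        rfl
      rw [h5] at h4
      rw [← h4]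
      exact SetLike.coe_mem _
    refine (hc.disj h2 h1 ?_).symm
    intro h3
    apply ht
    apply Subtype.ext
    rw [mul_inv_eq_one] at h3
    exact mul_left_cancel (h3.trans (mul_one x).symm)
  have hMne : M ≠ ⊤ := by
    intro h
    have h1 : Subsingleton (G ⧸ M) := by rw [h]; exact QuotientGroup.subsingleton_quotient_top
    exact (not_subsingleton_iff_nontrivial.2 e.toEquiv.nontrivial) h1
  by_cases hk : f.ker ≤ M
  · -- `G / M` acts faithfully on the components
    have hk' : f.ker = M := le_antisymm hk hMf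
    have h1 : Nat.card L ∣ m.factorial := by
      have h2 : Nat.card f.range ∣ Nat.card (Equiv.Perm (Fin m)) := Subgroup.card_subgroup_dvd_card _
      rw [Nat.card_perm, Nat.card_fin, ← Nat.card_congr (QuotientGroup.quotientKerEquivRange f).toEquiv] at h2
      have h3 : Nat.card (G ⧸ f.ker) = Nat.card L := by
        rw [← Subgroup.index_eq_card, hk', Subgroup.index_eq_card, Nat.card_congr e.toEquiv]
      rwa [h3] at h2
    have h2 : 2 ^ m ∣ Nat.card M := by
      rw [Nat.card_congr φ.toEquiv, Nat.card_pi]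
      have h3 : ∏ _i : Fin m, 2 = 2 ^ m := by simp
      rw [← h3]
      apply Finset.prod_dvd_prod_of_dvd
      intro i _
      have := hc.simple i
      apply hev
      intro hcm
      obtain ⟨a, b, hab⟩ := hc.nc i
      exact hab (hcm.is_comm.comm a b)
    have h3 : 2 ^ (m * 2) ∣ m.factorial := by
      rw [pow_mul]
      exact ((pow_dvd_pow_of_dvd h2 2).trans hsq).trans h1
    have hm0 := hc.pos
    exact not_two_pow (by omega) (by omega) h3
  · -- one component
    have hk' : f.ker = ⊤ := by
      have h1 := sup_eq_top M e f.ker hk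
      rwa [sup_eq_left.2 hMf] at h1
    have hij : ∀ i j : Fin m, i = j := by
      intro i j
      obtain ⟨g, hg⟩ := hc.trans i j
      have h1 : g ∈ f.ker := by rw [hk']; exact mem_top g
      rw [MonoidHom.mem_ker, hfs] at h1
      have h2 := hs g i
      rw [h1, ← hg] at h2
      exact hc.inj h2
    have h0 : Fin m := ⟨0, hc.pos⟩
    have huq : Unique (Fin m) := ⟨⟨h0⟩, fun i => hij i _⟩
    let i0 : Fin m := default
    have hsimT := hc.simple i0
    let E : M ≃* T i0 := φ.trans (MulEquiv.piUnique (fun i => T i))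
    have hsM : IsSimpleGroup M := E.isSimpleGroup
    have hcM : ¬ IsMulCommutative M := by
      intro hcm
      apply hna
      intro x hx y hy
      exact congrArg Subtype.val (hcm.is_comm.comm (⟨x, hx⟩ : M) ⟨y, hy⟩)
    have hC : centralizer (M : Set G) = ⊥ := by
      by_contra hne
      have h1 := hu _ inferInstance hne
      apply hna
      intro x hx y hy
      exact (mem_centralizer_iff.1 (h1 hy) x hx)
    exact hMne (H310.PerfTools.eq_top_of_schreier hp M hC (hSch M hcM))

theorem quot_ne_top (M : Subgroup G) [M.Normal] (e : G ⧸ M ≃* L) : M ≠ ⊤ := by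
  intro h
  have h1 : Subsingleton (G ⧸ M) := by rw [h]; exact QuotientGroup.subsingleton_quotient_top
  exact (not_subsingleton_iff_nontrivial.2 e.toEquiv.nontrivial) h1

/-- the action on an abelian normal subgroup -/
def act (M : Subgroup G) [M.Normal] (hab : ∀ x ∈ M, ∀ y ∈ M, Commute x y) :
    letI : CommGroup M := { (inferInstance : Group M) with mul_comm := fun a b => Subtype.ext (hab a a.2 b b.2) }
    G →* AddMonoid.End (Additive M) :=
  letI : CommGroup M := { (inferInstance : Group M) with mul_comm := fun a b => Subtype.ext (hab a a.2 b b.2) }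
  { toFun := fun g => (MulAut.conjNormal g : MulAut M).toMonoidHom.toAdditive
    map_one' := by
      ext x
      simp
      rfl
    map_mul' := fun a b => by
      ext x
      simp
      rfl }

theorem act_apply (M : Subgroup G) [M.Normal] (hab : ∀ x ∈ M, ∀ y ∈ M, Commute x y) (g : G) (x : M) :
    ((Additive.toMul (act M hab g (Additive.ofMul x)) : M) : G) = g * x * g⁻¹ := rfl

/-- `M` abelian and not central is self-centralising -/
theorem centralizer_le (M : Subgroup G) [hM : M.Normal] (e : G ⧸ M ≃* L)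
    (hab : ∀ x ∈ M, ∀ y ∈ M, Commute x y) (hnc : ¬ M ≤ center G) : centralizer (M : Set G) ≤ M := by
  by_contra hne
  have h1 := sup_eq_top M e _ hne
  have h2 : M ≤ centralizer (M : Set G) := by
    intro x hx
    rw [mem_centralizer_iff]
    intro y hy
    exact hab y hy x hx
  rw [sup_eq_left.2 h2] at h1
  apply hnc
  intro x hx
  rw [Subgroup.mem_center_iff]
  intro g
  have h3 : g ∈ centralizer (M : Set G) := by rw [h1]; exact mem_top g
  exact (mem_centralizer_iff.1 h3 x hx).symm

/-- `M` abelian and not central -/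
theorem noncentral (M : Subgroup G) [hM : M.Normal] (e : G ⧸ M ≃* L) (hM1 : M ≠ ⊥)
    (hmin : ∀ J : Subgroup G, J.Normal → J ≤ M → J = ⊥ ∨ J = M)
    (hab : ∀ x ∈ M, ∀ y ∈ M, Commute x y) (hnc : ¬ M ≤ center G) :
    ∃ (t : ℕ) (_ : t.Prime) (m : ℕ), Nat.card M = t ^ m ∧ (∀ x ∈ M, x ^ t = 1) ∧
      Nat.card L ∣ Nat.card (Matrix.GeneralLinearGroup (Fin m) (ZMod t)) := by
  classical
  have hC := centralizer_le M e hab hnc
  obtain ⟨q, hq, -, hqM⟩ := Lib.MinNormalNonabelian.abelian_structure M hM1 hmin hab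
  have := Fact.mk hq
  letI : CommGroup M := { (inferInstance : Group M) with mul_comm := fun a b => Subtype.ext (hab a a.2 b b.2) }
  obtain ⟨m, θ, hm, hθ⟩ := H189.FeitTits.exists_mod (E := Additive M) q (fun a => by
    have h1 := hqM (Additive.toMul a : M) (Additive.toMul a : M).2
    apply Additive.toMul.injective
    apply Subtype.ext
    simpa using h1) (act M hab)
  have hmM : q ^ m = Nat.card M := hm
  refine ⟨q, hq, m, hmM.symm, fun x hx => hqM x hx, ?_⟩
  have hker : ∀ g, θ g = 1 → g ∈ M := by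
    intro g hg
    apply hC
    rw [mem_centralizer_iff]
    intro x hx
    have h1 := hθ g hg (Additive.ofMul ⟨x, hx⟩)
    have h2 : ((Additive.toMul (act M hab g (Additive.ofMul ⟨x, hx⟩)) : M) : G) = x := by rw [h1]; rfl
    rw [act_apply] at h2
    exact (mul_inv_eq_iff_eq_mul.1 h2).symm
  let Θ : G →* Matrix.GeneralLinearGroup (Fin m) (ZMod q) := θ.toHomUnits
  have hΘ : Θ.ker ≤ M := by
    intro g hg
    apply hker
    rw [MonoidHom.mem_ker] at hg
    have h1 : ((Θ g : Matrix.GeneralLinearGroup (Fin m) (ZMod q)) : Matrix (Fin m) (Fin m) (ZMod q)) = θ g := rfl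
    rw [← h1, hg]
    rfl
  have h1 : Nat.card L = M.index := by rw [Subgroup.index_eq_card, Nat.card_congr e.toEquiv]
  have h2 : M.index ∣ Θ.ker.index := Subgroup.index_dvd_of_le hΘ
  have h3 : Θ.ker.index = Nat.card Θ.range := Subgroup.index_ker Θ
  rw [h1]
  exact h2.trans (h3 ▸ Subgroup.card_subgroup_dvd_card Θ.range)

/-- `M` minimal normal and central -/
theorem central (M : Subgroup G) [hM : M.Normal] (hM1 : M ≠ ⊥)
    (hmin : ∀ J : Subgroup G, J.Normal → J ≤ M → J = ⊥ ∨ J = M) (hMc : M ≤ center G) : (Nat.card M).Prime := by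
  have hcen : ∀ J : Subgroup G, J ≤ M → J.Normal := by
    intro J hJ
    constructor
    intro x hx g
    have h1 := mem_center_iff.1 (hMc (hJ hx)) g
    rw [h1]
    simpa using hx
  have h1 : 1 < Nat.card M := by
    rw [Subgroup.one_lt_card_iff_ne_bot]
    exact hM1
  obtain ⟨q, hq, hqd⟩ := Nat.exists_prime_and_dvd h1.ne'
  have := Fact.mk hq
  obtain ⟨x, hx⟩ := exists_prime_orderOf_dvd_card' (G := M) q hqd
  have h2 : zpowers (x : G) ≤ M := by
    rw [zpowers_le]
    exact x.2
  rcases hmin _ (hcen _ h2) h2 with h4 | h4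
  · exfalso
    rw [zpowers_eq_bot] at h4
    have h5 : x = 1 := Subtype.ext h4
    rw [h5, orderOf_one] at hx
    exact hq.one_lt.ne hx
  · have h5 : Nat.card M = q := by
      rw [← h4, Nat.card_zpowers, ← hx]
      exact orderOf_coe x
    rw [h5]
    exact hq

end Cfsg.Agent.H850.Cod
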